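import Groth.Agent.Lib.Helper2.Stk.Sky
import Groth.Agent.Lib.Helper2.Stk.Tensor
import Groth.Agent.Lib.Helper2.Flat.PullExact
import Groth.Agent.Lib.Helper5.TypeA

/-!
# Stalks of `j_{U!} O_U` on a scheme, and `F ⊗ j_{U!}O_U → F ⊗ j_{V!}O_V` is a monomorphism
-/

set_option autoImplicit false
universe u
open CategoryTheory CategoryTheory.Limits AlgebraicGeometry TopologicalSpace Opposite MonoidalCategory
open Groth.Agent.Lib.Helper2.Stk Groth.Agent.Lib.Helper13.ModSiteFreeOn Groth.Agent.Lib.Helper5.TypeA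

namespace Groth.Agent.Lib.Helper2.Flasque

variable {X : Scheme.{u}}

/-- `j_{U!} O_U` as an `O_X`-module. -/
noncomputable abbrev fo (U : X.Opens) : X.Modules := ModSite.freeOn X.sheaf U

/-- Functoriality in `U`. -/
noncomputable abbrev foMap {U V : X.Opens} (i : U ⟶ V) : fo U ⟶ fo V := freeOnMap X.sheaf i

/-- Maps out of the stalk of `j_{U!} O_U` at `x` are sections of the skyscraper over `U`. -/
noncomputable def stalkFoEquiv (x : X) (U : X.Opens) (T : ModuleCat.{u} (X.presheaf.stalk x)) :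
    ((Φ x).obj (fo U) ⟶ T) ≃ SkySec x T U :=
  ((stalkSkyAdj x).homEquiv (fo U) T).trans (freeOnHomEquiv X.sheaf U ((skyF x).obj T))

lemma stalkFoEquiv_naturality (x : X) {U V : X.Opens} (i : U ⟶ V)
    (T : ModuleCat.{u} (X.presheaf.stalk x)) (g : (Φ x).obj (fo V) ⟶ T) (h : PLift (x ∈ U)) :
    stalkFoEquiv x U T ((Φ x).map (foMap i) ≫ g) h = stalkFoEquiv x V T g ⟨i.le h.down⟩ := by
  unfold stalkFoEquiv
  simp only [Equiv.trans_apply]
  rw [Adjunction.homEquiv_naturality_left]
  have h1 := freeOnHomEquiv_freeOnMap_comp X.sheaf i ((skyF x).obj T)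
    ((stalkSkyAdj x).homEquiv (fo V) T g)
  exact congrFun h1 h

lemma isZero_stalk_fo (x : X) (U : X.Opens) (hx : x ∉ U) : IsZero ((Φ x).obj (fo U)) := by
  rw [IsZero.iff_id_eq_zero]
  apply (stalkFoEquiv x U _).injective
  funext h
  exact (hx h.down).elim

lemma isIso_stalk_foMap (x : X) {U V : X.Opens} (i : U ⟶ V) (hx : x ∈ U) :
    IsIso ((Φ x).map (foMap i)) := by
  have hb : ∀ T : ModuleCat.{u} (X.presheaf.stalk x),
      Function.Bijective (fun g : (Φ x).obj (fo V) ⟶ T => (Φ x).map (foMap i) ≫ g) := by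
    intro T
    constructor
    · intro g g' hgg
      apply (stalkFoEquiv x V T).injective
      funext h
      have := congrFun (congrArg (stalkFoEquiv x U T) hgg) ⟨hx⟩
      simp only [stalkFoEquiv_naturality] at this
      exact this
    · intro g
      refine ⟨(stalkFoEquiv x V T).symm (fun _ => stalkFoEquiv x U T g ⟨hx⟩), ?_⟩
      apply (stalkFoEquiv x U T).injective
      funext h
      simp only [stalkFoEquiv_naturality, Equiv.apply_symm_apply]
  obtain ⟨r, hr⟩ := (hb _).2 (𝟙 _)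
  refine ⟨r, hr, ?_⟩
  apply (hb _).1
  show (Φ x).map (foMap i) ≫ r ≫ (Φ x).map (foMap i) = (Φ x).map (foMap i) ≫ 𝟙 _
  have hr' : (Φ x).map (foMap i) ≫ r = 𝟙 _ := hr
  rw [← Category.assoc, hr', Category.id_comp, Category.comp_id]

theorem mono_tensor_foMap (F : X.Modules) {U V : X.Opens} (i : U ⟶ V) :
    Mono ((DCoh.tensorBi.obj F).map (foMap i)) := by
  apply mono_of_stalks
  intro x
  by_cases hx : x ∈ U
  · haveI := isIso_stalk_foMap x i hx
    have e := tensorIso_naturality_right F (foMap i) x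
    have h2 : (Φ x).map ((DCoh.tensorBi.obj F).map (foMap i)) =
        (tensorIso F (fo U) x).inv ≫ ((Φ x).obj F ◁ (Φ x).map (foMap i)) ≫
          (tensorIso F (fo V) x).hom := by
      rw [← e, Iso.inv_hom_id_assoc]
    rw [h2]
    infer_instance
  · have hz : IsZero ((Φ x).obj ((DCoh.tensorBi.obj F).obj (fo U))) := by
      refine IsZero.of_iso ?_ (tensorIso F (fo U) x).symm
      exact (tensorLeft ((Φ x).obj F)).map_isZero (isZero_stalk_fo x U hx)
    exact ⟨fun _ _ _ => hz.eq_of_tgt _ _⟩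

end Groth.Agent.Lib.Helper2.Flasque
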